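import Cfsg.Agent.FusionOmega.Metacyclic
import Cfsg.Agent.FGS.MetacyclicOmega
import Cfsg.Agent.S4207

/-!
# A characteristic subgroup of index `p` of a nonabelian metacyclic `p`-group, `p` odd
-/

set_option autoImplicit false
set_option linter.style.haveILetI false

namespace CfsgLib.FusionMetaSuper

open scoped commutatorElement

variable {G : Type*} [Group G] [Finite G] {p : ℕ} [hp : Fact p.Prime]

theorem eq_one_of_coprime_trivial_frattini (hG : IsPGroup p G) {α : MulAut G}
    (hco : (orderOf α).Coprime p) (h : ∀ x : G, α x * x⁻¹ ∈ frattini G) : α = 1 := by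
  obtain ⟨n, hn⟩ := IsPGroup.iff_card.1 hG
  obtain ⟨r, hr⟩ := hG.index (frattini G)
  have hA : ∀ β ∈ Subgroup.zpowers α, ∀ x : G, β x * x⁻¹ ∈ frattini G := by
    let A : Subgroup (MulAut G) :=
      { carrier := {β | ∀ x : G, QuotientGroup.mk' (frattini G) (β x) =
          QuotientGroup.mk' (frattini G) x}
        one_mem' := fun x => rfl
        mul_mem' := fun {a b} ha hb x => (ha (b x)).trans (hb x)
        inv_mem' := fun {a} ha x => by
          have h1 := ha (a⁻¹ x)
          rw [MulAut.apply_inv_self] at h1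
          exact h1.symm }
    have hα : α ∈ A := fun x => mul_inv_eq_one.1 (by
      rw [← map_inv, ← map_mul]
      exact (QuotientGroup.eq_one_iff _).2 (h x))
    intro β hβ x
    rw [← QuotientGroup.eq_one_iff]
    show QuotientGroup.mk' (frattini G) (β x * x⁻¹) = 1
    rw [map_mul, map_inv, mul_inv_eq_one]
    exact Subgroup.zpowers_le.2 hα hβ x
  have hcard := Cfsg.Agent.S4207.result hn hr (Subgroup.zpowers α) hA
  rw [Nat.card_zpowers] at hcard
  exact orderOf_eq_one_iff.1
    (Nat.eq_one_of_dvd_coprimes (hco.pow_right _) dvd_rfl hcard)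

theorem exists_char_index_prime_aux (hp2 : p ≠ 2) (hG : IsPGroup p G) (hm : Cfsg.IsMetacyclic G)
    (hcen : ∀ x y : G, ⁅x, y⁆ ∈ Subgroup.center G) (hpow : ∀ x y : G, ⁅x, y⁆ ^ p = 1)
    (hne : ¬ IsMulCommutative G) : ∃ M : Subgroup G, M.Characteristic ∧ M.index = p := by
  classical
  obtain ⟨K, hK, hKcard⟩ := CfsgLib.FusionOmega.exists_omega_of_isMetacyclic hp2 hG hm
  obtain ⟨n, hn⟩ := IsPGroup.iff_card.1 hG
  have hex : ∃ e, ∀ x : G, x ^ p ^ e = 1 := ⟨n, fun x => by rw [← hn]; exact pow_card_eq_one'⟩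
  set e := Nat.find hex with he_def
  have he : ∀ x : G, x ^ p ^ e = 1 := Nat.find_spec hex
  have he2 : 2 ≤ e := by
    by_contra hlt
    have hall : ∀ x : G, x ∈ K := fun x => (hK x).2 (by
      obtain ⟨d, hd⟩ := pow_dvd_pow p (show e ≤ 1 by omega)
      rw [← pow_one p, hd, pow_mul, he, one_pow])
    have htop : K = ⊤ := eq_top_iff.2 fun x _ => hall x
    rw [htop, Subgroup.card_top] at hKcard
    obtain ⟨j, hj, hj'⟩ := (Nat.dvd_prime_pow hp.1).1 hKcard
    refine hne ?_
    interval_cases j
    · haveI : Subsingleton G := (Nat.card_eq_one_iff_unique.1 (by simpa using hj')).1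
      exact ⟨⟨fun a b => Subsingleton.elim _ _⟩⟩
    · haveI : Fact (Nat.card G).Prime := ⟨by rw [hj', pow_one]; exact hp.1⟩
      haveI : IsCyclic G := isCyclic_of_prime_card (p := Nat.card G) rfl
      exact IsCyclic.isMulCommutative
    · exact IsPGroup.isMulCommutative_of_card_eq_prime_sq hj'
  have hpc : ∀ x : G, x ^ p ∈ Subgroup.center G := by
    intro x
    rw [Subgroup.mem_center_iff]
    intro y
    have hyx : y * x * y⁻¹ = ⁅y, x⁆ * x := by rw [commutatorElement_def]; group
    have hc : Commute ⁅y, x⁆ x := (Subgroup.mem_center_iff.1 (hcen y x) x).symm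
    have h1 : y * x ^ p * y⁻¹ = x ^ p := by
      rw [← conj_pow, hyx, hc.mul_pow, hpow, one_mul]
    exact mul_inv_eq_iff_eq_mul.1 h1
  let f : G →* G := MonoidHom.mk' (fun x => x ^ p ^ (e - 1)) fun x y => by
    obtain ⟨d, hd⟩ : ∃ d, e - 1 = d + 1 := ⟨e - 2, by omega⟩
    rw [hd, pow_succ' p, pow_mul, pow_mul, pow_mul]
    have h := map_mul (CfsgLib.FusionEssential.pPowHom hp2 hcen hpow) x y
    simp only [CfsgLib.FusionEssential.pPowHom_apply] at h
    rw [h]
    exact Commute.mul_pow (Subgroup.mem_center_iff.1 (hpc x) (y ^ p)).symm _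
  have hfK : f.range ≤ K := by
    rintro _ ⟨x, rfl⟩
    rw [hK]
    show (x ^ p ^ (e - 1)) ^ p = 1
    rw [← pow_mul, ← pow_succ, show e - 1 + 1 = e by omega, he]
  have hfne : f.range ≠ ⊥ := by
    intro h
    have := Nat.find_le (h := hex) (n := e - 1) fun x => by
      have hx : f x ∈ f.range := ⟨x, rfl⟩
      rw [h, Subgroup.mem_bot] at hx
      exact hx
    omega
  have hequi : ∀ (φ : G ≃* G) (x : G), φ (f x) = f (φ x) := fun φ x => map_pow φ _ _
  obtain ⟨j, hj, hjr⟩ := (Nat.dvd_prime_pow hp.1).1 ((Subgroup.card_dvd_of_le hfK).trans hKcard)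
  have hj0 : j ≠ 0 := fun h => hfne (Subgroup.card_eq_one.1 (by rw [hjr, h, pow_zero]))
  obtain rfl | rfl : j = 1 ∨ j = 2 := by omega
  · refine ⟨f.ker, Subgroup.characteristic_iff_comap_le.2 fun φ x hx => ?_, ?_⟩
    · have hx' : f (φ x) = 1 := hx
      rw [← hequi] at hx'
      exact φ.injective (hx'.trans (map_one φ).symm)
    · rw [Subgroup.index_ker, hjr, pow_one]
  · -- the range is the whole of `K`
    have hrK : f.range = K := Subgroup.eq_of_le_of_card_ge hfK (by
      rw [hjr]; exact Nat.le_of_dvd (pow_pos hp.1.pos 2) hKcard)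
    have hCK : commutator G ≤ K := by
      rw [commutator_def, Subgroup.commutator_le]
      exact fun x _ y _ => (hK _).2 (hpow x y)
    have hCp : Nat.card (commutator G) = p := by
      haveI := CfsgLib.FGS.isCyclic_commutator_of_isMetacyclic hm
      have h1 : Nat.card (commutator G) ∣ p := by
        rw [← IsCyclic.exponent_eq_card]
        exact Monoid.exponent_dvd_of_forall_pow_eq_one fun x =>
          Subtype.ext ((hK _).1 (hCK x.2))
      refine ((Nat.dvd_prime hp.1).1 h1).resolve_left fun h => hne ⟨⟨fun a b => ?_⟩⟩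
      have hab : ⁅a, b⁆ ∈ commutator G :=
        Subgroup.commutator_mem_commutator (Subgroup.mem_top a) (Subgroup.mem_top b)
      rw [Subgroup.card_eq_one.1 h, Subgroup.mem_bot,
        commutatorElement_eq_one_iff_mul_comm] at hab
      exact hab
    refine ⟨(commutator G).comap f, Subgroup.characteristic_iff_comap_le.2 fun φ x hx => ?_, ?_⟩
    · have hx' : f (φ x) ∈ commutator G := hx
      rw [← hequi] at hx'
      show f x ∈ commutator G
      have h := Subgroup.Characteristic.fixed (H := commutator G) inferInstance φ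
      rw [← h]
      exact hx'
    · rw [Subgroup.index_comap]
      have h := Subgroup.card_mul_index ((commutator G).subgroupOf f.range)
      rw [Nat.card_congr (Subgroup.subgroupOfEquivOfLe (hCK.trans hrK.ge)).toEquiv, hCp, hjr,
        sq] at h
      exact Nat.eq_of_mul_eq_mul_left hp.1.pos h

/-- A nonabelian metacyclic `p`-group, `p` odd, has a characteristic subgroup of index `p`. -/
theorem exists_char_index_prime (hp2 : p ≠ 2) (hG : IsPGroup p G) (hm : Cfsg.IsMetacyclic G)
    (hne : ¬ IsMulCommutative G) : ∃ M : Subgroup G, M.Characteristic ∧ M.index = p := by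
  haveI : Group.IsNilpotent G := hG.isNilpotent
  haveI := CfsgLib.FGS.isCyclic_commutator_of_isMetacyclic hm
  obtain ⟨⟨c, hcC⟩, hc⟩ := (inferInstance : IsCyclic ↥(commutator G)).exists_generator
  have hgen : ∀ x ∈ commutator G, ∃ k : ℤ, c ^ k = x := fun x hx => by
    obtain ⟨k, hk⟩ := Subgroup.mem_zpowers_iff.1 (hc ⟨x, hx⟩)
    exact ⟨k, congrArg Subtype.val hk⟩
  let N : Subgroup G := Subgroup.zpowers (c ^ p)
  haveI hNchar : N.Characteristic := Subgroup.characteristic_iff_le_comap.2 fun φ => by
    refine Subgroup.zpowers_le.2 (?_ : φ (c ^ p) ∈ N)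
    have hφc : φ c ∈ commutator G := by
      have h := Subgroup.Characteristic.fixed (H := commutator G) inferInstance φ
      rw [← h] at hcC
      exact hcC
    obtain ⟨k, hk⟩ := hgen _ hφc
    rw [map_pow, ← hk, ← zpow_natCast, ← zpow_mul, mul_comm, zpow_mul, zpow_natCast]
    exact zpow_mem (Subgroup.mem_zpowers _) k
  let q := QuotientGroup.mk' N
  have hqc : q c ^ p = 1 := by
    rw [← map_pow]
    exact (QuotientGroup.eq_one_iff _).2 (Subgroup.mem_zpowers _)
  have hcomm : ∀ x y : G ⧸ N, ∃ k : ℤ, ⁅x, y⁆ = q c ^ k := by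
    intro x y
    obtain ⟨x, rfl⟩ := QuotientGroup.mk'_surjective N x
    obtain ⟨y, rfl⟩ := QuotientGroup.mk'_surjective N y
    obtain ⟨k, hk⟩ := hgen _
      (Subgroup.commutator_mem_commutator (Subgroup.mem_top x) (Subgroup.mem_top y))
    exact ⟨k, by rw [← map_zpow, hk, map_commutatorElement]⟩
  have hcN : c ∉ N := by
    intro h
    have hc1 : c ≠ 1 := by
      intro h1
      refine hne ⟨⟨fun a b => ?_⟩⟩
      obtain ⟨k, hk⟩ := hgen _
        (Subgroup.commutator_mem_commutator (Subgroup.mem_top a) (Subgroup.mem_top b))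
      rw [h1, one_zpow, eq_comm, commutatorElement_eq_one_iff_mul_comm] at hk
      exact hk
    obtain ⟨i, hi⟩ := IsPGroup.iff_orderOf.1 hG c
    have hi0 : i ≠ 0 := fun h0 => hc1 (orderOf_eq_one_iff.1 (by rw [hi, h0, pow_zero]))
    have h1 : orderOf c ∣ orderOf (c ^ p) := by
      exact orderOf_dvd_of_mem_zpowers h
    rw [orderOf_pow_of_dvd hp.1.ne_zero (hi ▸ dvd_pow_self p hi0)] at h1
    have h2 := Nat.le_of_dvd (Nat.div_pos (Nat.le_of_dvd (orderOf_pos c)
      (hi ▸ dvd_pow_self p hi0)) hp.1.pos) h1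
    have h3 := Nat.div_lt_self (orderOf_pos c) hp.1.one_lt
    omega
  have hcn : (commutator G).map q ≤ Subgroup.center (G ⧸ N) := by
    have hcard : Nat.card ((commutator G).map q) ∣ p := by
      have hz : (commutator G).map q ≤ Subgroup.zpowers (q c) := by
        rintro _ ⟨x, hx, rfl⟩
        obtain ⟨k, rfl⟩ := hgen x hx
        exact ⟨k, (map_zpow q c k).symm⟩
      refine (Subgroup.card_dvd_of_le hz).trans ?_
      rw [Nat.card_zpowers]
      exact orderOf_dvd_of_pow_eq_one hqc
    haveI hn : ((commutator G).map q).Normal :=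
      Subgroup.Normal.map inferInstance q (QuotientGroup.mk'_surjective N)
    rcases (Nat.dvd_prime hp.1).1 hcard with h | h
    · rw [Subgroup.card_eq_one.1 h]; exact bot_le
    · haveI : Fact (Nat.card ((commutator G).map q)).Prime := ⟨h.symm ▸ hp.1⟩
      haveI : Group.IsNilpotent (G ⧸ N) := (hG.to_quotient N).isNilpotent
      rcases Subgroup.eq_bot_or_eq_top_of_prime_card
        ((Subgroup.center (G ⧸ N)).subgroupOf ((commutator G).map q)) with hb | ht
      · refine absurd ?_ (CfsgLib.Solvable.inf_center_ne_bot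
          (N := (commutator G).map q) fun hbot => ?_)
        · rw [eq_bot_iff]
          intro x hx
          have : (⟨x, hx.1⟩ : (commutator G).map q) ∈
              (Subgroup.center (G ⧸ N)).subgroupOf ((commutator G).map q) := hx.2
          rw [hb, Subgroup.mem_bot] at this
          exact Subgroup.mem_bot.2 (congrArg Subtype.val this)
        · rw [hbot, Subgroup.card_bot] at h
          exact hp.1.ne_one h.symm
      · intro x hx
        exact (ht ▸ Subgroup.mem_top _ : (⟨x, hx⟩ : (commutator G).map q) ∈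
          (Subgroup.center (G ⧸ N)).subgroupOf ((commutator G).map q))
  obtain ⟨M, hMchar, hMidx⟩ := exists_char_index_prime_aux hp2 (hG.to_quotient N)
    (CfsgLib.FGS.isMetacyclic_quotient N hm)
    (fun x y => by
      obtain ⟨k, hk⟩ := hcomm x y
      rw [hk]
      exact zpow_mem (hcn ⟨c, hcC, rfl⟩) k)
    (fun x y => by
      obtain ⟨k, hk⟩ := hcomm x y
      rw [hk, ← zpow_natCast, ← zpow_mul, mul_comm, zpow_mul, zpow_natCast, hqc, one_zpow])
    (fun hab => hcN (by
      have hle : commutator G ≤ N := by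
        rw [commutator_def, Subgroup.commutator_le]
        intro x _ y _
        refine (QuotientGroup.eq_one_iff _).1 ?_
        show q ⁅x, y⁆ = 1
        rw [map_commutatorElement, commutatorElement_eq_one_iff_mul_comm]
        exact hab.is_comm.comm _ _
      exact hle hcC))
  refine ⟨M.comap q, Subgroup.characteristic_iff_comap_le.2 fun φ x hx => ?_, ?_⟩
  · have hN' : N.map φ.toMonoidHom = N := by
      exact Subgroup.characteristic_iff_map_eq.1 hNchar φ
    let φq : (G ⧸ N) ≃* (G ⧸ N) := QuotientGroup.congr N N φ hN'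
    have h := Subgroup.Characteristic.fixed (H := M) hMchar φq
    show q x ∈ M
    rw [← h]
    exact hx
  · rw [Subgroup.index_comap_of_surjective _ (QuotientGroup.mk'_surjective N), hMidx]

omit [Finite G] in
theorem frattini_le_of_index_prime {M : Subgroup G} (hM : M.index = p) :
    frattini G ≤ M := by
  refine frattini_le_coatom ⟨fun h => ?_, fun L hL => ?_⟩
  · rw [h, Subgroup.index_top] at hM
    exact hp.1.ne_one hM.symm
  · have hdvd := Subgroup.index_dvd_of_le hL.le
    rw [hM] at hdvd
    rcases (Nat.dvd_prime hp.1).1 hdvd with h | h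
    · exact Subgroup.index_eq_one.1 h
    · have h1 := Subgroup.relIndex_mul_index hL.le
      rw [h, hM] at h1
      exact absurd (Subgroup.relIndex_eq_one.1
        (Nat.eq_of_mul_eq_mul_right hp.1.pos (h1.trans (one_mul p).symm))) (not_le_of_gt hL)

end CfsgLib.FusionMetaSuper
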