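import Cfsg.Agent.FusionMetaSuper.OddNormal
import Cfsg.Agent.FusionClosed.FineChain

/-!
# The `p'`-automorphisms of a nonabelian metacyclic `p`-group, `p` odd
-/

set_option autoImplicit false
set_option linter.style.haveILetI false

namespace CfsgLib.FusionMetaSuper

variable {G : Type*} [Group G]

/-- The action of automorphisms on the quotient by a characteristic subgroup. -/
def quotAct (N : Subgroup G) [N.Normal] [hN : N.Characteristic] : MulAut G →* MulAut (G ⧸ N) where
  toFun α := QuotientGroup.congr N N α (Subgroup.characteristic_iff_map_eq.1 hN α)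
  map_one' := by
    refine MulEquiv.ext fun x => ?_
    obtain ⟨g, rfl⟩ := QuotientGroup.mk_surjective x
    rfl
  map_mul' α β := by
    refine MulEquiv.ext fun x => ?_
    obtain ⟨g, rfl⟩ := QuotientGroup.mk_surjective x
    rfl

theorem quotAct_apply (N : Subgroup G) [N.Normal] [N.Characteristic] (α : MulAut G) (g : G) :
    quotAct N α (QuotientGroup.mk' N g) = QuotientGroup.mk' N (α g) := rfl

variable [Finite G] {p : ℕ} [hp : Fact p.Prime]

/-- `p`-prime automorphism groups of a nonabelian metacyclic `p`-group, `p` odd, are abelian of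
exponent dividing `p - 1`. -/
theorem abelian_exponent_of_coprime (hp2 : p ≠ 2) (hG : IsPGroup p G) (hm : Cfsg.IsMetacyclic G)
    (hne : ¬ IsMulCommutative G) (H : Subgroup (MulAut G)) (hH : (Nat.card H).Coprime p) :
    IsMulCommutative H ∧ ∀ h ∈ H, h ^ (p - 1) = 1 := by
  haveI : Finite (MulAut G) := Finite.of_injective (fun α => (α : G → G)) DFunLike.coe_injective
  obtain ⟨M, hMchar, hMidx⟩ := exists_char_index_prime hp2 hG hm hne
  have hΦM := frattini_le_of_index_prime hMidx
  let q := QuotientGroup.mk' (frattini G)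
  let ψ := quotAct (frattini G)
  have hqs : Function.Surjective q := QuotientGroup.mk'_surjective _
  have hX : IsPGroup p (G ⧸ frattini G) := hG.to_quotient _
  have hco : ∀ h ∈ H, (orderOf h).Coprime p := fun h hh =>
    hH.coprime_dvd_left (Subgroup.orderOf_dvd_natCard H hh)
  have hψ : ∀ h ∈ H, ψ h = 1 → h = 1 := fun h hh h1 =>
    eq_one_of_coprime_trivial_frattini hG (hco h hh) fun x => by
      have h2 : q (h x) = q x := (quotAct_apply (frattini G) h x).symm.trans
        (DFunLike.congr_fun h1 (q x))
      rw [← QuotientGroup.eq_one_iff]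
      show q (h x * x⁻¹) = 1
      rw [map_mul, map_inv, h2, mul_inv_cancel]
  let Mq : Subgroup (G ⧸ frattini G) := M.map q
  have hcomap : Mq.comap q = M := by
    rw [Subgroup.comap_map_eq_self]
    rw [QuotientGroup.ker_mk']
    exact hΦM
  have hMqidx : Mq.index = p := by
    rw [← Subgroup.index_comap_of_surjective Mq hqs, hcomap, hMidx]
  haveI hMqn : Mq.Normal := Subgroup.Normal.map inferInstance q hqs
  let C : ℕ → Subgroup (G ⧸ frattini G) := fun i =>
    if i = 0 then ⊥ else if i = 1 then Mq else ⊤
  have h0 : C 0 = ⊥ := rfl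
  have hm2 : C 2 = ⊤ := rfl
  have hmono : Monotone C := monotone_nat_of_le_succ fun i => by
    rcases i with _ | _ | i
    · exact bot_le
    · exact le_top
    · exact le_top
  have hnormal : ∀ i, ((C i).subgroupOf (C (i + 1))).Normal := fun i => by
    have : (C i).Normal := by simp only [C]; split_ifs <;> infer_instance
    infer_instance
  have hstep : ∀ i < 2, (C i).relIndex (C (i + 1)) ∣ p := by
    intro i hi
    interval_cases i
    · show (⊥ : Subgroup (G ⧸ frattini G)).relIndex Mq ∣ p
      rw [Subgroup.relIndex_bot_left]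
      have h := (Subgroup.card_mul_index Mq).trans
        (Subgroup.index_eq_card (frattini G)).symm
      have h2 := h ▸ index_frattini_dvd hp2 hG hm
      rw [hMqidx, sq] at h2
      exact Nat.dvd_of_mul_dvd_mul_right hp.1.pos h2
    · show Mq.relIndex ⊤ ∣ p
      rw [Subgroup.relIndex_top_right, hMqidx]
  have hinv : ∀ h : MulAut G, ∀ i x, ψ h x ∈ C i ↔ x ∈ C i := by
    intro h i x
    rcases i with _ | _ | i
    · simp only [h0, Subgroup.mem_bot]
      exact ⟨fun e => (ψ h).injective (e.trans (map_one _).symm), fun e => by rw [e, map_one]⟩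
    · obtain ⟨g, rfl⟩ := hqs x
      show q (h g) ∈ Mq ↔ q g ∈ Mq
      rw [← Subgroup.mem_comap, ← Subgroup.mem_comap, hcomap]
      exact Iff.of_eq (congrArg (g ∈ ·) (Subgroup.Characteristic.fixed (H := M) hMchar h))
    · exact ⟨fun _ => Subgroup.mem_top _, fun _ => Subgroup.mem_top _⟩
  have hcoψ : ∀ h ∈ H, (orderOf (ψ h)).Coprime p := fun h hh =>
    (hco h hh).coprime_dvd_left (orderOf_map_dvd ψ h)
  refine ⟨⟨⟨fun a b => Subtype.ext ?_⟩⟩, fun h hh => hψ _ (pow_mem hh _) ?_⟩
  · have hab : (a : MulAut G) * b * (a : MulAut G)⁻¹ * (b : MulAut G)⁻¹ ∈ H :=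
      mul_mem (mul_mem (mul_mem a.2 b.2) (inv_mem a.2)) (inv_mem b.2)
    have h1 : ψ a * ψ b = ψ b * ψ a :=
      CfsgLib.FusionClosed.commute_of_fine hX h0 hm2 hmono hnormal hstep
        (by rw [← map_inv, ← map_inv, ← map_mul, ← map_mul, ← map_mul]; exact hcoψ _ hab)
        (hinv a) (hinv b)
    have h2 := hψ _ hab (by
      rw [map_mul, map_mul, map_mul, map_inv, map_inv, h1, mul_inv_cancel_right, mul_inv_cancel])
    show (a : MulAut G) * b = b * a
    calc (a : MulAut G) * b
        = (a * b * (a : MulAut G)⁻¹ * (b : MulAut G)⁻¹) * (b * a) := by group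
      _ = b * a := by rw [h2, one_mul]
  · rw [map_pow]
    exact CfsgLib.FusionClosed.pow_sub_one_of_fine hX h0 hm2 hmono hnormal hstep (hcoψ h hh)
      (hinv h)

end CfsgLib.FusionMetaSuper
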