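import Cfsg.Agent.FusionMetaSuper.CharSubgroup
import Cfsg.Agent.FusionOmega.SmallOmega
import Cfsg.Agent.FusionExtraspecial.Small
import Cfsg.Agent.FusionClosed.Stabilizer
import Cfsg.Agent.FusionClosed.Normality
import Cfsg.Agent.OddOrder.BG4.MetacyclicAction

/-!
# Metacyclic `p`-groups are resistant, `p` odd
-/

set_option autoImplicit false
set_option linter.style.haveILetI false

namespace CfsgLib.FusionMetaSuper

open Cfsg Cfsg.FusionSystem CfsgLib.Fusion

section Group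

variable {R : Type*} [Group R] [Finite R] {p : ℕ} [hp : Fact p.Prime]

/-- The Frattini quotient of a metacyclic `p`-group, `p` odd, has order at most `p ^ 2`. -/
theorem index_frattini_dvd (hp2 : p ≠ 2) (hR : IsPGroup p R) (hm : Cfsg.IsMetacyclic R) :
    (frattini R).index ∣ p ^ 2 := by
  obtain ⟨K, hK, hKcard⟩ := CfsgLib.FusionOmega.exists_omega_of_isMetacyclic hp2
    (hR.to_quotient (frattini R)) (CfsgLib.FGS.isMetacyclic_quotient (frattini R) hm)
  have htop : K = ⊤ := eq_top_iff.2 fun y _ => (hK y).2 (by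
    obtain ⟨x, rfl⟩ := QuotientGroup.mk'_surjective (frattini R) y
    rw [← map_pow]
    exact (QuotientGroup.eq_one_iff _).2 (CfsgLib.Solvable.pow_mem_frattini hR x))
  rw [htop, Subgroup.card_top, ← Subgroup.index_eq_card] at hKcard
  exact hKcard

/-- An automorphism of order prime to `p` which stabilises `R > M > Φ(R)` is trivial. -/
theorem eq_one_of_stab_two (hR : IsPGroup p R) {M : Subgroup R} {α : MulAut R}
    (hco : (orderOf α).Coprime p) (h1 : ∀ x : R, x⁻¹ * α x ∈ M)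
    (h2 : ∀ x ∈ M, x⁻¹ * α x ∈ frattini R) : α = 1 := by
  refine eq_one_of_coprime_trivial_frattini hR hco fun x => ?_
  let q := QuotientGroup.mk' (frattini R)
  have hq : ∀ y : R, y ∈ frattini R ↔ q y = 1 := fun y => (QuotientGroup.eq_one_iff y).symm
  have hqα : ∀ y ∈ M, q (α y) = q y := fun y hy => by
    have h := (hq _).1 (h2 y hy)
    rw [map_mul, map_inv, inv_mul_eq_one] at h
    exact h.symm
  have hiterM : ∀ (n : ℕ) (y : R), y ∈ M → q ((α ^ n) y) = q y := by
    intro n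
    induction n with
    | zero => intro y _; rfl
    | succ n ih =>
      intro y hy
      have hαy : α y ∈ M := by
        have := mul_mem hy (h1 y)
        rwa [mul_inv_cancel_left] at this
      rw [pow_succ, MulAut.mul_apply, ih _ hαy, hqα y hy]
  set c := x⁻¹ * α x with hc
  have hiter : ∀ n : ℕ, q ((α ^ n) x) = q x * q c ^ n := by
    intro n
    induction n with
    | zero => simp
    | succ n ih =>
      have hx : α x = x * c := by rw [hc, mul_inv_cancel_left]
      rw [pow_succ, MulAut.mul_apply, hx, map_mul, map_mul, ih, hiterM n c (h1 x), pow_succ,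
        mul_assoc]
  have h3 := hiter (orderOf α)
  rw [pow_orderOf_eq_one, MulAut.one_apply, left_eq_mul] at h3
  obtain ⟨k, hk⟩ := hR c
  have hgcd : (orderOf α).gcd (p ^ k) = 1 := (hco.pow_right k).gcd_eq_one
  have h4 : orderOf (q c) ∣ 1 := hgcd ▸ Nat.dvd_gcd (orderOf_dvd_of_pow_eq_one h3)
    (orderOf_dvd_of_pow_eq_one (by rw [← map_pow, hk, map_one]))
  have h5 : q c = 1 := orderOf_eq_one_iff.1 (Nat.dvd_one.1 h4)
  rw [hc, map_mul, map_inv, inv_mul_eq_one] at h5
  rw [hq, map_mul, map_inv, mul_inv_eq_one]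
  exact h5.symm

end Group

variable {Ω : Type*} [Group Ω] {S R : Subgroup Ω} {F : FusionSystem S} {p : ℕ}

/-- An essential subgroup which is metacyclic is abelian, `p` odd. -/
theorem isMulCommutative_of_essential [Finite S] [hp : Fact p.Prime] (hS : IsPGroup p S)
    (hp2 : p ≠ 2) (hm : Cfsg.IsMetacyclic R) (hess : F.IsEssential p R) :
    IsMulCommutative R := by
  by_contra hne
  haveI := finite_of_le hess.1.1
  have hRp : IsPGroup p R := hS.to_le hess.1.1
  obtain ⟨M, hMchar, hMidx⟩ := exists_char_index_prime hp2 hRp hm hne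
  have hΦM := frattini_le_of_index_prime hMidx
  let C : ℕ → Subgroup R := fun i => if i = 0 then ⊤ else if i = 1 then M else frattini R
  have hchar : ∀ i, (C i).Characteristic := fun i => by
    simp only [C]; split_ifs <;> infer_instance
  have hinv : ∀ α ∈ F.autGroup R, ∀ i, ∀ x ∈ C i, α x ∈ C i := fun α _ i x hx => by
    have h := Subgroup.Characteristic.fixed (H := C i) (hchar i) α
    rw [← h] at hx
    exact hx
  let K := CfsgLib.FusionEssential.stabChain (F.autGroup R) C 2 hinv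
  haveI hKn : K.Normal := CfsgLib.FusionEssential.stabChain_normal
  have hKp : IsPGroup p K := CfsgLib.FusionClosed.isPGroup_of_coprime_trivial fun g hg hco => by
    refine Subtype.ext (eq_one_of_stab_two hRp (M := M) (by rwa [Subgroup.orderOf_coe]) ?_ ?_)
    · intro x
      exact hg 0 (by omega) x (Subgroup.mem_top x)
    · intro x hx
      exact hg 1 (by omega) x hx
  have hidx2 : (frattini R).relIndex M = p ∨ (frattini R).relIndex M = 1 := by
    have h := (Subgroup.relIndex_mul_index hΦM).symm ▸ index_frattini_dvd hp2 hRp hm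
    rw [hMidx, sq] at h
    exact ((Nat.dvd_prime hp.1).1 (Nat.dvd_of_mul_dvd_mul_right hp.1.pos h)).symm
  obtain ⟨α, ⟨k, hk⟩, hout⟩ := CfsgLib.FusionEssential.exists_pElement_not_inn hess
  have hαk : (α : MulAut R) ^ (p ^ k) = 1 := by
    rw [← SubgroupClass.coe_pow, hk, OneMemClass.coe_one]
  haveI : M.Normal := inferInstance
  haveI : (frattini R).Normal := inferInstance
  have hαK : α ∈ K := by
    intro i hi x hx
    rcases i with _ | _ | i
    · exact CfsgLib.FusionEssential.inv_mul_apply_mem_of_relIndex (B := ⊤) (D := M)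
        (by rw [Subgroup.relIndex_top_right, hMidx]) hαk (fun y _ => Subgroup.mem_top _)
        (fun y hy => hinv _ α.2 1 y hy) (Subgroup.mem_top x)
    · rcases hidx2 with h | h
      · exact CfsgLib.FusionEssential.inv_mul_apply_mem_of_relIndex (B := M) (D := frattini R)
          h hαk (fun y hy => hinv _ α.2 1 y hy) (fun y hy => hinv _ α.2 2 y hy) hx
      · exact mul_mem (inv_mem (Subgroup.relIndex_eq_one.1 h hx))
          (Subgroup.relIndex_eq_one.1 h (hinv _ α.2 1 x hx))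
    · omega
  exact hout (CfsgLib.FusionEssential.map_le_Inn hess hKn hKp ⟨α, hαK, rfl⟩)

/-- A metacyclic `p`-group, `p` odd, has no essential subgroups. -/
theorem not_isEssential_of_isMetacyclic [Finite S] [hp : Fact p.Prime] (hS : IsPGroup p S)
    (hF : F.IsSaturated p) (hp2 : p ≠ 2) (hm : Cfsg.IsMetacyclic S) :
    ¬ F.IsEssential p R := by
  classical
  intro hess
  have hRS : R ≤ S := hess.1.1
  haveI := finite_of_le hRS
  have hRp : IsPGroup p R := hS.to_le hRS
  have hRm : Cfsg.IsMetacyclic R := CfsgLib.OddOrder.BG4.isMetacyclic_of_le hRS hm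
  have hab := isMulCommutative_of_essential hS hp2 hRm hess
  obtain ⟨E, hE, hEcard⟩ := CfsgLib.FusionOmega.exists_omega_of_isMetacyclic hp2 hRp hRm
  have hinvE : ∀ (α : MulAut R) (x : R), x ∈ E → α x ∈ E := fun α x hx => by
    rw [hE] at hx ⊢
    rw [← map_pow, hx, map_one]
  let ρ : F.autGroup R →* MulAut E :=
    { toFun := fun α =>
        { toFun := fun y => ⟨(α : MulAut R) y, hinvE _ _ y.2⟩
          invFun := fun y => ⟨(α : MulAut R)⁻¹ y, hinvE _ _ y.2⟩
          left_inv := fun y => Subtype.ext (by simp)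
          right_inv := fun y => Subtype.ext (by simp)
          map_mul' := fun y y' => Subtype.ext (map_mul _ _ _) }
      map_one' := rfl
      map_mul' := fun _ _ => rfl }
  -- the restriction to `E` is injective
  have hker : ρ.ker = ⊥ := by
    have hp' : IsPGroup p ρ.ker := CfsgLib.FusionClosed.isPGroup_of_coprime_trivial fun g hg hco =>
      Subtype.ext (CfsgLib.FusionClosed.eq_one_of_fix_prime_order hp2 hRp
        (by rwa [Subgroup.orderOf_coe]) fun x hx =>
          congrArg Subtype.val (DFunLike.congr_fun hg ⟨x, (hE x).2 hx⟩))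
    rw [eq_bot_iff]
    intro g hg
    obtain ⟨r, hr⟩ := CfsgLib.FusionEssential.map_le_Inn hess ρ.normal_ker hp' ⟨g, hg, rfl⟩
    refine Subgroup.mem_bot.2 (Subtype.ext (MulEquiv.ext fun x => ?_))
    show (g : MulAut R) x = x
    rw [show (g : MulAut R) = (F.autGroup R).subtype g from rfl, ← hr, MulAut.conj_apply,
      hab.is_comm.comm r x, mul_inv_cancel_right]
  have hρ : Function.Injective ρ := (MonoidHom.ker_eq_bot_iff ρ).1 hker
  obtain ⟨α, β, ⟨a, ha⟩, ⟨b, hb⟩, hne⟩ :=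
    CfsgLib.FusionEssential.exists_noncommute_pElements hess
  have hEc : ∀ x y : E, x * y = y * x := fun x y =>
    Subtype.ext (hab.is_comm.comm (x : R) (y : R))
  have hEexp : ∀ x : E, x ^ p = 1 := fun x => Subtype.ext ((hE _).1 x.2)
  have hEi : Nat.card E = p ^ 2 := by
    obtain ⟨j, hj, hj'⟩ := (Nat.dvd_prime_pow hp.1).1 hEcard
    by_contra h
    have hj1 : j = 0 ∨ j = 1 := by
      rcases Nat.lt_or_ge j 2 with h' | h'
      · omega
      · exact absurd ((show j = 2 by omega) ▸ hj') h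
    haveI : IsCyclic E := by
      rcases hj1 with rfl | rfl
      · haveI : Subsingleton E := (Nat.card_eq_one_iff_unique.1 (by simpa using hj')).1
        exact isCyclic_of_subsingleton
      · haveI : Fact (Nat.card E).Prime := ⟨by rw [hj', pow_one]; exact hp.1⟩
        exact isCyclic_of_prime_card (p := Nat.card E) rfl
    exact hne (hρ (by
      rw [map_mul, map_mul]
      exact CfsgLib.FusionEssential.mulAut_commute_of_isCyclic (ρ α) (ρ β)))
  obtain ⟨f⟩ := CfsgLib.FusionEssential.exists_mulEquiv_fin_of_elementary hEc hEexp hEi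
  let Φ : MulAut E →* GL (Fin 2) (ZMod p) := (CfsgLib.FusionEssential.autMatrix f).toHomUnits
  have hΦ : Function.Injective Φ := fun x y h =>
    CfsgLib.FusionEssential.autMatrix_injective f (congrArg Units.val h)
  obtain ⟨g, hg⟩ := CfsgLib.FusionEssential.exists_sl_two_le (Φ.comp ρ).range
    (u := Φ (ρ α)) (w := Φ (ρ β)) ⟨α, rfl⟩ ⟨β, rfl⟩ (a := a) (b := b)
    (by rw [← map_pow, ← map_pow, ha, map_one, map_one])
    (by rw [← map_pow, ← map_pow, hb, map_one, map_one])
    (fun h => hne (hρ (hΦ (by simpa using h))))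
  let N : Matrix.SpecialLinearGroup (Fin 2) (ZMod p) := ⟨-1, by simp [Matrix.det_neg]⟩
  obtain ⟨τ, hτM⟩ := hg N
  have hval : (Φ (ρ τ) : Matrix (Fin 2) (Fin 2) (ZMod p)) = -1 := by
    have h : Φ (ρ τ) = g * Matrix.SpecialLinearGroup.toGL N * g⁻¹ := hτM
    rw [h, Units.val_mul, Units.val_mul]
    show (g : Matrix (Fin 2) (Fin 2) (ZMod p)) * (-1) *
      ((g⁻¹ : GL (Fin 2) (ZMod p)) : Matrix (Fin 2) (Fin 2) (ZMod p)) = -1
    rw [mul_neg, mul_one, neg_mul, Units.mul_inv]
  have hτE : ∀ x : E, (τ : MulAut R) x = ((x⁻¹ : E) : R) := by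
    intro x
    have h2 := CfsgLib.FusionEssential.autMatrix_mulVec f (ρ τ) (f x).toAdd
    rw [show CfsgLib.FusionEssential.autMatrix f (ρ τ) = -1 from hval, Matrix.neg_mulVec,
      Matrix.one_mulVec, ofAdd_toAdd, MulEquiv.symm_apply_apply] at h2
    have h3 : ρ τ x = x⁻¹ := f.injective (Multiplicative.toAdd.injective (by
      rw [map_inv, toAdd_inv, ← h2]))
    exact congrArg Subtype.val h3
  -- `τ` is central
  have hτc : ∀ δ : F.autGroup R, τ * δ = δ * τ := fun δ => hρ (hΦ (Units.ext (by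
    simp only [map_mul, Units.val_mul, hval, neg_mul, mul_neg, one_mul, mul_one])))
  -- `τ` has no nontrivial fixed point
  have hfix : ∀ s : R, (τ : MulAut R) s = s → s = 1 := by
    intro s hs
    by_contra hs1
    obtain ⟨j, hj⟩ := IsPGroup.iff_orderOf.1 hRp s
    obtain ⟨j, rfl⟩ : ∃ i, j = i + 1 :=
      Nat.exists_eq_succ_of_ne_zero fun h0 => hs1 (orderOf_eq_one_iff.1 (by rw [hj, h0, pow_zero]))
    set w := s ^ p ^ j with hw
    have hwp : w ^ p = 1 := by rw [hw, ← pow_mul, ← pow_succ, ← hj, pow_orderOf_eq_one]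
    have hwinv : w = w⁻¹ := by
      have h := hτE ⟨w, (hE w).2 hwp⟩
      simp only [Subgroup.coe_inv] at h
      rw [← h, hw, map_pow, hs]
    have hw1 : w ≠ 1 := fun e => by
      have h1 := orderOf_dvd_of_pow_eq_one e
      rw [hj, Nat.pow_dvd_pow_iff_le_right hp.1.one_lt] at h1
      omega
    have hw2 : w ^ 2 = 1 := by
      rw [sq]; nth_rewrite 2 [hwinv]; exact mul_inv_cancel w
    have h1 := Nat.dvd_gcd (orderOf_dvd_of_pow_eq_one hw2) (orderOf_dvd_of_pow_eq_one hwp)
    rw [((Nat.coprime_primes Nat.prime_two hp.1).2 (Ne.symm hp2)).gcd_eq_one, Nat.dvd_one,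
      orderOf_eq_one_iff] at h1
    exact hw1 h1
  -- extend `τ` to `N_S(R)`
  set T := normalizerIn S R with hT
  have hRT : R ≤ T := le_inf hRS Subgroup.le_normalizer
  haveI := finite_of_le (normalizerIn_le S R)
  have hauto := automized_receptive hS hF hess.2.1
  have hτiso : IsIso F (τ : MulAut R) := (mem_autGroup_iff hRS).1 τ.2
  have hTle : T ≤ extender S R (R.subtype.comp (τ : MulAut R).toMonoidHom) := by
    intro x hx
    let cx : MulAut R := R.normalizerMonoidHom ⟨x, hx.2⟩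
    have hcx : cx ∈ autInducedBy S R :=
      mem_autInducedBy_iff.2 ⟨x, hx.1, hx.2, fun _ => rfl⟩
    refine mem_extender_of_congr hx (α := cx) (fun _ => rfl) ?_
    rw [congr_self_eq]
    have h := congrArg Subtype.val (hτc ⟨cx, autInducedBy_le_autGroup hRS hcx⟩)
    simp only [Subgroup.coe_mul] at h
    rw [h, mul_inv_cancel_right]
    exact hcx
  obtain ⟨ψ, hψ, hψτ⟩ := exists_extension hauto.2 hτiso hTle
  have hlt : R < S := lt_of_le_of_ne hRS
    (CfsgLib.FusionExtraspecial.ne_self_of_essential hS hF hess)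
  obtain ⟨x, hxT, hxR⟩ := SetLike.exists_of_lt (lt_normalizerIn hS hlt)
  -- `ψ x ∈ x R`
  have hψx : x⁻¹ * ψ ⟨x, hxT⟩ ∈ R := by
    refine hess.1.2 R (isConj_refl hRS) (Subgroup.mem_inf.2
      ⟨mul_mem (inv_mem hxT.1) (apply_mem hψ _), Subgroup.mem_centralizer_iff.2 fun r hr => ?_⟩)
    obtain ⟨r₀, hr₀⟩ := (τ : MulAut R).surjective ⟨r, hr⟩
    have hconj : x * (r₀ : Ω) * x⁻¹ ∈ R :=
      (Subgroup.mem_normalizer_iff.1 hxT.2 _).1 r₀.2
    have hc := congrArg (fun δ : F.autGroup R => (((δ : MulAut R) r₀ : R) : Ω)) (hτc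
      ⟨R.normalizerMonoidHom ⟨x, hxT.2⟩, autInducedBy_le_autGroup hRS
        (mem_autInducedBy_iff.2 ⟨x, hxT.1, hxT.2, fun _ => rfl⟩)⟩)
    change (((τ : MulAut R) ⟨x * r₀ * x⁻¹, hconj⟩ : R) : Ω) =
      x * (((τ : MulAut R) r₀ : R) : Ω) * x⁻¹ at hc
    rw [← hψτ _ (hRT hconj), show (⟨x * r₀ * x⁻¹, hRT hconj⟩ : T) =
      ⟨x, hxT⟩ * ⟨r₀, hRT r₀.2⟩ * ⟨x, hxT⟩⁻¹ from rfl, map_mul, map_mul, map_inv,
      hψτ _ (hRT r₀.2), hr₀] at hc
    calc r * (x⁻¹ * ψ ⟨x, hxT⟩) = x⁻¹ * (x * r * x⁻¹) * ψ ⟨x, hxT⟩ := by group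
      _ = x⁻¹ * (ψ ⟨x, hxT⟩ * r * (ψ ⟨x, hxT⟩)⁻¹) * ψ ⟨x, hxT⟩ := by rw [hc]
      _ = x⁻¹ * ψ ⟨x, hxT⟩ * r := by group
  -- `s ↦ s (τ s)⁻¹` is onto
  have hsurj : Function.Surjective fun s : R => s * ((τ : MulAut R) s)⁻¹ := by
    refine Finite.surjective_of_injective fun s t h => ?_
    have h1 : (τ : MulAut R) (t⁻¹ * s) = t⁻¹ * s := by
      change s * ((τ : MulAut R) s)⁻¹ = t * ((τ : MulAut R) t)⁻¹ at h
      rw [map_mul, map_inv]
      calc ((τ : MulAut R) t)⁻¹ * (τ : MulAut R) s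
          = t⁻¹ * (t * ((τ : MulAut R) t)⁻¹) * (τ : MulAut R) s := by group
        _ = t⁻¹ * (s * ((τ : MulAut R) s)⁻¹) * (τ : MulAut R) s := by rw [h]
        _ = t⁻¹ * s := by group
    exact (inv_mul_eq_one.1 (hfix _ h1)).symm
  obtain ⟨s, hs⟩ := hsurj ⟨_, hψx⟩
  have hs' : x⁻¹ * ψ ⟨x, hxT⟩ = (s : Ω) * (((τ : MulAut R) s : R) : Ω)⁻¹ :=
    (congrArg Subtype.val hs).symm
  -- a fixed element outside `R`
  let y : T := ⟨x, hxT⟩ * ⟨s, hRT s.2⟩
  have hy : ψ y = (y : Ω) := by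
    show ψ (⟨x, hxT⟩ * ⟨s, hRT s.2⟩) = x * s
    rw [map_mul, hψτ _ (hRT s.2),
      show ψ ⟨x, hxT⟩ = x * (x⁻¹ * ψ ⟨x, hxT⟩) from (mul_inv_cancel_left _ _).symm, hs']
    group
  have hy1 : (y : Ω) ∉ R := fun h => hxR (by
    have h1 := mul_mem h (inv_mem s.2)
    rwa [show (y : Ω) = x * s from rfl, mul_inv_cancel_right] at h1)
  -- its power of order `p` lies in `E`
  obtain ⟨j, hj⟩ := IsPGroup.iff_orderOf.1 (hS.to_le (normalizerIn_le S R)) y
  obtain ⟨j, rfl⟩ : ∃ i, j = i + 1 := Nat.exists_eq_succ_of_ne_zero fun h0 => hy1 (by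
    rw [orderOf_eq_one_iff.1 (by rw [hj, h0, pow_zero] : orderOf y = 1)]
    exact one_mem R)
  set w := y ^ p ^ j with hw
  have hwp : w ^ p = 1 := by rw [hw, ← pow_mul, ← pow_succ, ← hj, pow_orderOf_eq_one]
  have hw1 : w ≠ 1 := fun e => by
    have h1 := orderOf_dvd_of_pow_eq_one e
    rw [hj, Nat.pow_dvd_pow_iff_le_right hp.1.one_lt] at h1
    omega
  obtain ⟨U, hU, hUcard⟩ := CfsgLib.FusionOmega.exists_omega_of_isMetacyclic hp2
    (hS.to_le (normalizerIn_le S R))
    (CfsgLib.OddOrder.BG4.isMetacyclic_of_le (normalizerIn_le S R) hm)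
  have hUeq : E.map (Subgroup.inclusion hRT) = U := by
    refine Subgroup.eq_of_le_of_card_ge ?_ ?_
    · rintro _ ⟨z, hz, rfl⟩
      rw [hU, ← map_pow, (hE z).1 hz, map_one]
    · rw [Subgroup.card_map_of_injective (Subgroup.inclusion_injective hRT), hEi]
      exact Nat.le_of_dvd (pow_pos hp.1.pos 2) hUcard
  obtain ⟨z, hz, hzw⟩ : w ∈ E.map (Subgroup.inclusion hRT) := hUeq ▸ (hU w).2 hwp
  have hψw : ψ w = (w : Ω) := by rw [hw, map_pow, hy, SubgroupClass.coe_pow]
  have hψz : ψ ⟨z, hRT z.2⟩ = ((z : R) : Ω)⁻¹ := by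
    rw [hψτ _ (hRT z.2), hτE ⟨z, hz⟩]
    rfl
  rw [show (⟨z, hRT z.2⟩ : T) = w from hzw] at hψz
  have hwinv : (w : Ω) = ((z : R) : Ω)⁻¹ := hψw.symm.trans hψz
  have hzval : ((z : R) : Ω) = (w : Ω) := congrArg Subtype.val hzw
  have hw2 : w ^ 2 = 1 := Subtype.ext (by
    rw [SubgroupClass.coe_pow, OneMemClass.coe_one, sq]
    nth_rewrite 2 [hwinv]
    rw [hzval, mul_inv_cancel])
  have h1 := Nat.dvd_gcd (orderOf_dvd_of_pow_eq_one hw2) (orderOf_dvd_of_pow_eq_one hwp)
  rw [((Nat.coprime_primes Nat.prime_two hp.1).2 (Ne.symm hp2)).gcd_eq_one, Nat.dvd_one,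
    orderOf_eq_one_iff] at h1
  exact hw1 h1

/-- A metacyclic `p`-group, `p` odd, is resistant. -/
theorem isNormal_self_of_isMetacyclic [Finite S] [Fact p.Prime] (hS : IsPGroup p S)
    (hF : F.IsSaturated p) (hp2 : p ≠ 2) (hm : Cfsg.IsMetacyclic S) : F.IsNormal S :=
  CfsgLib.FusionClosed.isNormal_of_le_essential hS hF
    ⟨le_rfl, fun _ _ _ hφ x => apply_mem hφ x⟩
    fun _ hR => absurd hR (not_isEssential_of_isMetacyclic hS hF hp2 hm)

end CfsgLib.FusionMetaSuper
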